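import Cfsg.Agent.MThirteen.TwoA
import Cfsg.Agent.BpMon.Thirteen
import Cfsg.Agent.CpAutBFive.Final
import Cfsg.Agent.LThreeMB.CoOneFin
import Cfsg.Agent.OrdDiv.Table
import Cfsg.Agent.Prune
set_option linter.all false
prune_inst 0x7f00000000000000000000000000000000000000000000000000000000000000000000000000000000000000000000000000000000000000000000000000000000000000000000000000000000000000003fffffffffffffffffffffffffffbeffbdffffffff

/-!
# S1332, the row of the Monster, `p = 13` (helper75)
-/

set_option autoImplicit false

namespace Cfsg.Agent.MThirteen.RowM

open Cfsg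

end Cfsg.Agent.MThirteen.RowM
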